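import Cfsg.Agent.EqLemmas

set_option autoImplicit false

/-!
Three-cycles as ordered triples: `tri a b c` (a → b → c → a).
Main: `eq_tri` (a three-cycle moving a is a triple), `tri_conj`, `eq_tri_of_sq_eq_one` (two three-cycles with product
of order two share one oriented edge), `tri_mem_of_base` (the triples `tri a b k` generate all three-cycles).
-/

namespace Cfsg.Agent.AltAut

open Equiv

variable {α : Type*} [DecidableEq α]

/-- The three-cycle a → b → c → a. -/
def tri (a b c : α) : Perm α := swap a c * swap a b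

section
variable {a b c : α}

theorem tri_apply_fst (ab : a ≠ b) (bc : b ≠ c) : tri a b c a = b := by
  simp [tri, swap_apply_of_ne_of_ne ab.symm bc]

theorem tri_apply_snd : tri a b c b = c := by simp [tri]

theorem tri_apply_thd (ac : a ≠ c) (bc : b ≠ c) : tri a b c c = a := by
  simp [tri, swap_apply_of_ne_of_ne ac.symm bc.symm]

theorem tri_apply_ne {x : α} (ha : x ≠ a) (hb : x ≠ b) (hc : x ≠ c) : tri a b c x = x := by
  simp [tri, swap_apply_of_ne_of_ne ha hb, swap_apply_of_ne_of_ne ha hc]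

theorem tri_rotate (ab : a ≠ b) (ac : a ≠ c) (bc : b ≠ c) : tri a b c = tri b c a := by
  refine Equiv.ext fun x => ?_
  by_cases ha : x = a
  · subst ha; rw [tri_apply_fst ab bc, tri_apply_thd ab.symm ac.symm]
  · by_cases hb : x = b
    · subst hb; rw [tri_apply_snd, tri_apply_fst bc ac.symm]
    · by_cases hc : x = c
      · subst hc; rw [tri_apply_thd ac bc, tri_apply_snd]
      · rw [tri_apply_ne ha hb hc, tri_apply_ne hb hc ha]

theorem tri_inv (ab : a ≠ b) (ac : a ≠ c) (bc : b ≠ c) : (tri a b c)⁻¹ = tri c b a := by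
  refine inv_eq_of_mul_eq_one_right (Equiv.ext fun x => ?_)
  show tri a b c (tri c b a x) = x
  by_cases ha : x = a
  · subst ha; rw [tri_apply_thd ac.symm ab.symm, tri_apply_thd ac bc]
  · by_cases hb : x = b
    · subst hb; rw [tri_apply_snd, tri_apply_fst ab bc]
    · by_cases hc : x = c
      · subst hc; rw [tri_apply_fst bc.symm ab.symm, tri_apply_snd]
      · rw [tri_apply_ne hc hb ha, tri_apply_ne ha hb hc]

theorem tri_conj (σ : Perm α) (a b c : α) : σ * tri a b c * σ⁻¹ = tri (σ a) (σ b) (σ c) := by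
  rw [tri, tri, swap_apply_apply, swap_apply_apply]
  group

theorem isThreeCycle_tri [Fintype α] (ab : a ≠ b) (ac : a ≠ c) (bc : b ≠ c) : (tri a b c).IsThreeCycle :=
  Equiv.Perm.isThreeCycle_swap_mul_swap_same ac ab bc.symm

end

/-- A three-cycle moving `a` is the triple starting at `a`. -/
theorem eq_tri [Fintype α] {x : Perm α} (hx : x.IsThreeCycle) {a : α} (ha : x a ≠ a) :
    (x (x a) ≠ x a ∧ x (x a) ≠ a) ∧ x (x (x a)) = a ∧ x = tri a (x a) (x (x a)) := by
  have h3 : ∀ y, x (x (x y)) = y := by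
    intro y
    have h := pow_orderOf_eq_one x
    rw [hx.orderOf] at h
    exact Equiv.congr_fun h y
  have hb : x (x a) ≠ x a := fun h => ha (x.injective h)
  have hc : x (x a) ≠ a := by
    intro h
    have := h3 a
    rw [h] at this
    exact ha this
  refine ⟨⟨hb, hc⟩, h3 a, ?_⟩
  have hsub : x.support = {a, x a, x (x a)} := by
    symm
    refine Finset.eq_of_subset_of_card_le ?_ ?_
    · intro y hy
      simp only [Finset.mem_insert, Finset.mem_singleton] at hy
      rcases hy with rfl | rfl | rfl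
      · exact Perm.mem_support.mpr ha
      · exact Perm.mem_support.mpr hb
      · exact Perm.mem_support.mpr (by rw [h3]; exact hc.symm)
    · rw [hx.card_support, Finset.card_eq_three.mpr ⟨a, x a, x (x a), ha.symm, hc.symm, hb.symm, rfl⟩]
  refine Equiv.ext fun y => ?_
  by_cases hy : y ∈ x.support
  · rw [hsub] at hy
    simp only [Finset.mem_insert, Finset.mem_singleton] at hy
    rcases hy with rfl | rfl | rfl
    · rw [tri_apply_fst ha.symm hb.symm]
    · rw [tri_apply_snd]
    · rw [tri_apply_thd hc.symm hb.symm, h3]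
  · have hfix := Perm.notMem_support.mp hy
    rw [hsub] at hy
    simp only [Finset.mem_insert, Finset.mem_singleton, not_or] at hy
    rw [tri_apply_ne hy.1 hy.2.1 hy.2.2, hfix]

/-- Two three-cycles whose product has order two have one oriented edge in common and otherwise differ. -/
theorem eq_tri_of_sq_eq_one [Fintype α] {x y : Perm α} (hx : x.IsThreeCycle) (hy : y.IsThreeCycle)
    (hne : x ≠ y) (hone : x * y ≠ 1) (h : (x * y) ^ 2 = 1) :
    ∃ A B C D : α, A ≠ B ∧ A ≠ C ∧ B ≠ C ∧ A ≠ D ∧ B ≠ D ∧ C ≠ D ∧ x = tri A B C ∧ y = tri A B D := by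
  have h3 : ∀ z, x (x (x z)) = z := by
    intro z
    have h := pow_orderOf_eq_one x
    rw [hx.orderOf] at h
    exact Equiv.congr_fun h z
  have hsq : x * y * (x * y) = 1 := by rw [← sq]; exact h
  have happ : ∀ z, x (y (x (y z))) = z := fun z => Equiv.congr_fun hsq z
  obtain ⟨C, hCx, hCy⟩ : ∃ C, x C ≠ C ∧ y C = C := by
    by_contra hno
    push Not at hno
    obtain ⟨a, ha⟩ : ∃ a, x a ≠ a := by
      by_contra hno'
      push Not at hno'
      exact hx.ne_one (Equiv.ext hno')
    obtain ⟨⟨hb, hc⟩, hcc, hxe⟩ := eq_tri hx ha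
    obtain ⟨⟨hb', hc'⟩, hcc', hye⟩ := eq_tri hy (hno a ha)
    have hmem : ∀ z, y z ≠ z → z = a ∨ z = y a ∨ z = y (y a) := by
      intro z hz
      by_contra hzz
      simp only [not_or] at hzz
      exact hz (by rw [hye]; exact tri_apply_ne hzz.1 hzz.2.1 hzz.2.2)
    have h1 := hmem (x a) (hno _ hb)
    have h2 := hmem (x (x a)) (hno _ (by rw [hcc]; exact hc.symm))
    rcases h1 with h1 | h1 | h1
    · exact ha h1
    · rcases h2 with h2 | h2 | h2
      · exact hc h2
      · exact hb (h2.trans h1.symm)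
      · exact hne (by rw [hxe, hye, h1] ; rw [h1] at h2; rw [h2])
    · rcases h2 with h2 | h2 | h2
      · exact hc h2
      · refine hone ?_
        have hya : y a ≠ a := hno a ha
        rw [hxe, hye, h2, h1, ← eq_inv_iff_mul_eq_one, tri_inv hya.symm hc'.symm hb'.symm,
          tri_rotate hc'.symm hya.symm hb', tri_rotate hb' hc' hya]
      · exact hb (h2.trans h1.symm)
  obtain ⟨⟨hb, hc⟩, hcc, hxe⟩ := eq_tri hx hCx
  set A := x C with hA
  set B := x A with hB
  have hyA : y A = B := by
    have h1 := happ C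
    rw [hCy, ← hA] at h1
    exact x.injective (h1.trans (h3 C).symm)
  have hyAne : y A ≠ A := by rw [hyA]; exact hb
  obtain ⟨⟨hb', hc'⟩, hcc', hye⟩ := eq_tri hy hyAne
  rw [hyA] at hb' hc' hye hcc'
  refine ⟨A, B, C, y B, hb.symm, hCx, hc, hc'.symm, hb'.symm, ?_, ?_, hye⟩
  · intro heq
    exact hc (y.injective (hCy.trans heq)).symm
  · rw [hxe]; exact tri_rotate hCx.symm hc.symm hb.symm

/-- Edge rigidity: a third three-cycle related to both of two others has the same edge. -/
theorem apply_eq_of_edge [Fintype α] {z : Perm α} (hz : z.IsThreeCycle) {A B C D : α}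
    (AB : A ≠ B) (AC : A ≠ C) (BC : B ≠ C) (AD : A ≠ D) (BD : B ≠ D) (CD : C ≠ D)
    (hC : tri A B C ≠ z ∧ tri A B C * z ≠ 1 ∧ (tri A B C * z) ^ 2 = 1)
    (hD : tri A B D ≠ z ∧ tri A B D * z ≠ 1 ∧ (tri A B D * z) ^ 2 = 1) : z A = B := by
  have key : ∀ {E : α}, A ≠ E → B ≠ E → tri A B E ≠ z → tri A B E * z ≠ 1 → (tri A B E * z) ^ 2 = 1 →
      z A = B ∨ z B = E ∨ z E = A := by
    intro E AE BE h1 h2 h3
    obtain ⟨P, Q, R, S, PQ, PR, QR, PS, QS, RS, hx, hzz⟩ :=
      eq_tri_of_sq_eq_one (isThreeCycle_tri AB AE BE) hz h1 h2 h3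
    have hzP : z P = Q := by rw [hzz, tri_apply_fst PQ QS]
    have hxP : tri A B E P = Q := by rw [hx, tri_apply_fst PQ QR]
    by_cases hPA : P = A
    · subst hPA; rw [tri_apply_fst AB BE] at hxP; exact Or.inl (hzP.trans hxP.symm)
    · by_cases hPB : P = B
      · subst hPB; rw [tri_apply_snd] at hxP; exact Or.inr (Or.inl (hzP.trans hxP.symm))
      · by_cases hPE : P = E
        · subst hPE; rw [tri_apply_thd AE BE] at hxP; exact Or.inr (Or.inr (hzP.trans hxP.symm))
        · rw [tri_apply_ne hPA hPB hPE] at hxP; exact absurd hxP PQ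
  rcases key AC BC hC.1 hC.2.1 hC.2.2 with h | h | h
  · exact h
  all_goals rcases key AD BD hD.1 hD.2.1 hD.2.2 with h' | h' | h'
  · exact h'
  · exact absurd (h.symm.trans h') CD
  · -- z B = C, z D = A
    obtain ⟨⟨h1, h2⟩, h3, he⟩ := eq_tri hz (a := B) (by rw [h]; exact BC.symm)
    rw [h] at h1 h2 h3 he
    by_cases hDC : D = z C
    · rw [← hDC] at h3
      exact absurd (h'.symm.trans h3) AB
    · rw [he, tri_apply_ne BD.symm CD.symm hDC] at h'
      exact absurd h'.symm AD
  · exact h'
  · -- z C = A, z B = D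
    obtain ⟨⟨h1, h2⟩, h3, he⟩ := eq_tri hz (a := C) (by rw [h]; exact AC)
    rw [h] at h1 h2 h3 he
    by_cases hB : B = z A
    · exact hB.symm
    · rw [he, tri_apply_ne BC AB.symm hB] at h'
      exact absurd h' BD
  · exact absurd (z.injective (h.trans h'.symm)) CD

/-- The triples through a fixed ordered pair generate all three-cycles. -/
theorem tri_mem_of_base (S : Subgroup (Perm α)) (a b : α) (hab : a ≠ b)
    (h : ∀ k, k ≠ a → k ≠ b → tri a b k ∈ S) {p q r : α} (pq : p ≠ q) (pr : p ≠ r) (qr : q ≠ r) :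
    tri p q r ∈ S := by
  have hbkl : ∀ k l, k ≠ a → k ≠ b → l ≠ a → l ≠ b → k ≠ l → tri b k l ∈ S := by
    intro k l ka kb la lb kl
    have hc := tri_conj (tri a b k) a b l
    rw [tri_apply_fst hab kb.symm, tri_apply_snd, tri_apply_ne la lb kl.symm] at hc
    rw [← hc]
    exact S.mul_mem (S.mul_mem (h k ka kb) (h l la lb)) (S.inv_mem (h k ka kb))
  have hakl : ∀ k l, k ≠ a → k ≠ b → l ≠ a → l ≠ b → k ≠ l → tri a k l ∈ S := by
    intro k l ka kb la lb kl
    have hc := tri_conj (tri l b a) a b k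
    rw [tri_apply_thd la hab.symm, tri_apply_snd, tri_apply_ne kl kb ka] at hc
    -- tri l a k
    have hm : tri l a k ∈ S := by
      rw [← hc]
      have hinv : tri l b a ∈ S := by
        rw [← tri_inv hab la.symm lb.symm]; exact S.inv_mem (h l la lb)
      exact S.mul_mem (S.mul_mem hinv (h k ka kb)) (S.inv_mem hinv)
    rwa [tri_rotate la kl.symm ka.symm] at hm
  have hklm : ∀ k l m, k ≠ a → k ≠ b → l ≠ a → l ≠ b → m ≠ a → m ≠ b → k ≠ l → k ≠ m → l ≠ m →
      tri k l m ∈ S := by
    intro k l m ka kb la lb ma mb kl km lm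
    have hc := tri_conj (tri a b k) b l m
    rw [tri_apply_snd, tri_apply_ne la lb kl.symm, tri_apply_ne ma mb km.symm] at hc
    rw [← hc]
    exact S.mul_mem (S.mul_mem (h k ka kb) (hbkl l m la lb ma mb lm)) (S.inv_mem (h k ka kb))
  have hba : ∀ k, k ≠ a → k ≠ b → tri b a k ∈ S := by
    intro k ka kb
    have : tri k b a ∈ S := by rw [← tri_inv hab ka.symm kb.symm]; exact S.inv_mem (h k ka kb)
    rwa [tri_rotate kb ka hab.symm] at this
  -- positions of a and b among p, q, r
  have hfst : ∀ {p q r : α}, p ≠ q → p ≠ r → q ≠ r → (p = a ∨ p = b ∨ (p ≠ a ∧ p ≠ b ∧ q ≠ a ∧ q ≠ b ∧ r ≠ a ∧ r ≠ b)) →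
      tri p q r ∈ S := by
    intro p q r pq pr qr hp
    rcases hp with rfl | rfl | ⟨h1, h2, h3, h4, h5, h6⟩
    · by_cases hq : q = b
      · subst hq; exact h r pr.symm qr.symm
      · by_cases hr : r = b
        · subst hr
          have := hba q pq.symm qr
          rwa [tri_rotate pr.symm qr.symm pq] at this
        · exact hakl q r pq.symm hq pr.symm hr qr
    · by_cases hq : q = a
      · subst hq; exact hba r qr.symm pr.symm
      · by_cases hr : r = a
        · subst hr
          have := h q qr pq.symm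
          rwa [tri_rotate pr.symm qr.symm pq] at this
        · exact hbkl q r hq pq.symm hr pr.symm qr
    · exact hklm p q r h1 h2 h3 h4 h5 h6 pq pr qr
  by_cases hp : p = a ∨ p = b
  · exact hfst pq pr qr (hp.imp_right Or.inl)
  · simp only [not_or] at hp
    by_cases hq : q = a ∨ q = b
    · rw [tri_rotate pq pr qr]; exact hfst qr pq.symm pr.symm (hq.imp_right Or.inl)
    · simp only [not_or] at hq
      by_cases hr : r = a ∨ r = b
      · rw [tri_rotate pq pr qr, tri_rotate qr pq.symm pr.symm]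
        exact hfst pr.symm qr.symm pq (hr.imp_right Or.inl)
      · simp only [not_or] at hr
        exact hfst pq pr qr (Or.inr (Or.inr ⟨hp.1, hp.2, hq.1, hq.2, hr.1, hr.2⟩))

end Cfsg.Agent.AltAut
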