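import Cfsg.Agent.Lib.AltAut.ThreeCycle
import Cfsg.Agent.S2119
import Cfsg.Agent.EqLemmas

/-!
# Automorphisms of alternating groups of odd order (owner: helper76)

* `exists_conjNormal_of_threeCycle`: automorphism preserving 3-cycles comes from S_n (any n ≥ 4, also 6)
* `exists_conjNormal_of_odd`: every automorphism of odd order of A_n (n ≥ 5, including 6) comes from S_n
-/

open Equiv
open scoped Nat

namespace Cfsg.Agent.AltAut

theorem exists_conjNormal_of_threeCycle {n : ℕ} (hn : 4 ≤ n) (θ : MulAut (alternatingGroup (Fin n)))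
    (hθ : ∀ x : alternatingGroup (Fin n), (x : Perm (Fin n)).IsThreeCycle →
      ((θ x : alternatingGroup (Fin n)) : Perm (Fin n)).IsThreeCycle) :
    ∃ σ : Perm (Fin n), MulAut.conjNormal σ = θ := by
  set a : Fin n := ⟨0, by omega⟩ with ha
  set b : Fin n := ⟨1, by omega⟩ with hb
  have hab : a ≠ b := by simp [ha, hb, Fin.ext_iff]
  let P := {k : Fin n // k ≠ a ∧ k ≠ b}
  let t : P → alternatingGroup (Fin n) := fun k =>
    ⟨tri a b k.1, (isThreeCycle_tri hab k.2.1.symm k.2.2.symm).mem_alternatingGroup⟩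
  let y : P → Perm (Fin n) := fun k => ((θ (t k) : alternatingGroup (Fin n)) : Perm (Fin n))
  have hy3 : ∀ k, (y k).IsThreeCycle := fun k =>
    hθ (t k) (isThreeCycle_tri hab k.2.1.symm k.2.2.symm)
  have hrel : ∀ k l : P, k ≠ l → y k ≠ y l ∧ y k * y l ≠ 1 ∧ (y k * y l) ^ 2 = 1 := by
    intro k l hkl
    have kl : k.1 ≠ l.1 := fun h => hkl (Subtype.ext h)
    have happ : ∀ z, tri a b k.1 (tri a b l.1 z) =
        if z = a then k.1 else if z = k.1 then a else if z = b then l.1 else if z = l.1 then b else z := by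
      intro z
      split_ifs with h1 h2 h3 h4
      · rw [h1, tri_apply_fst hab l.2.2.symm, tri_apply_snd]
      · rw [h2, tri_apply_ne k.2.1 k.2.2 kl, tri_apply_thd k.2.1.symm k.2.2.symm]
      · rw [h3, tri_apply_snd, tri_apply_ne l.2.1 l.2.2 kl.symm]
      · rw [h4, tri_apply_thd l.2.1.symm l.2.2.symm, tri_apply_fst hab k.2.2.symm]
      · rw [tri_apply_ne h1 h3 h4, tri_apply_ne h1 h3 h2]
    have hsq : (t k * t l) ^ 2 = 1 := by
      refine Subtype.ext (Equiv.ext fun z => ?_)
      simp only [sq, Subgroup.coe_mul, Perm.mul_apply, t, happ, Subgroup.coe_one, Perm.coe_one, id_eq]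
      have := k.2; have := l.2
      split_ifs <;> simp_all
    refine ⟨?_, ?_, ?_⟩
    · intro h
      have h' : tri a b k.1 = tri a b l.1 := congrArg Subtype.val (θ.injective (Subtype.ext h))
      have := Equiv.congr_fun h' b
      rw [tri_apply_snd, tri_apply_snd] at this
      exact kl this
    · intro h
      have h' : t k * t l = 1 := by
        apply θ.injective
        rw [map_mul, map_one]
        exact Subtype.ext h
      have := Equiv.congr_fun (congrArg Subtype.val h') a
      simp only [Subgroup.coe_mul, Perm.mul_apply, t, happ, if_true, Subgroup.coe_one, Perm.coe_one, id_eq] at this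
      exact k.2.1 this
    · have := congrArg (fun g => ((θ g : alternatingGroup (Fin n)) : Perm (Fin n))) hsq
      simpa [y] using this
  set k₂ : P := ⟨⟨2, by omega⟩, by simp [ha, hb, Fin.ext_iff]⟩ with hk₂
  set k₃ : P := ⟨⟨3, by omega⟩, by simp [ha, hb, Fin.ext_iff]⟩ with hk₃
  have h23 : k₂ ≠ k₃ := fun h => absurd (congrArg (fun k : P => k.1.val) h) (by simp [hk₂, hk₃])
  obtain ⟨A, B, C, D, AB, AC, BC, AD, BD, CD, hC, hD⟩ :=
    eq_tri_of_sq_eq_one (hy3 k₂) (hy3 k₃) (hrel _ _ h23).1 (hrel _ _ h23).2.1 (hrel _ _ h23).2.2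
  have hAB : ∀ k, y k A = B := by
    intro k
    by_cases h2 : k = k₂
    · rw [h2, hC, tri_apply_fst AB BC]
    by_cases h3 : k = k₃
    · rw [h3, hD, tri_apply_fst AB BD]
    have r2 := hrel k₂ k (Ne.symm h2)
    have r3 := hrel k₃ k (Ne.symm h3)
    rw [hC] at r2; rw [hD] at r3
    exact apply_eq_of_edge (hy3 k) AB AC BC AD BD CD r2 r3
  have hye : ∀ k, (y k B ≠ B ∧ y k B ≠ A) ∧ y k = tri A B (y k B) := by
    intro k
    have h := eq_tri (hy3 k) (a := A) (by rw [hAB]; exact AB.symm)
    simp only [hAB] at h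
    exact ⟨h.1, h.2.2⟩
  let f : Fin n → Fin n := fun k => if hk : k ≠ a ∧ k ≠ b then y ⟨k, hk⟩ B else if k = a then A else B
  have fa : f a = A := by simp [f]
  have fb : f b = B := by simp [f, hab.symm]
  have fk : ∀ k : P, f k.1 = y k B := fun k => by simp [f, k.2]
  have hinj : Function.Injective f := by
    intro u v huv
    by_cases hu : u ≠ a ∧ u ≠ b
    · by_cases hv : v ≠ a ∧ v ≠ b
      · by_contra hne
        refine (hrel ⟨u, hu⟩ ⟨v, hv⟩ (fun h => hne (congrArg Subtype.val h))).1 ?_
        rw [(hye ⟨u, hu⟩).2, (hye ⟨v, hv⟩).2, ← fk ⟨u, hu⟩, ← fk ⟨v, hv⟩, huv]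
      · exfalso
        rw [fk ⟨u, hu⟩] at huv
        rcases (not_and_or.mp hv).imp not_not.mp not_not.mp with rfl | rfl
        · exact (hye ⟨u, hu⟩).1.2 (huv.trans fa)
        · exact (hye ⟨u, hu⟩).1.1 (huv.trans fb)
    · by_cases hv : v ≠ a ∧ v ≠ b
      · exfalso
        rw [fk ⟨v, hv⟩] at huv
        rcases (not_and_or.mp hu).imp not_not.mp not_not.mp with rfl | rfl
        · exact (hye ⟨v, hv⟩).1.2 (huv.symm.trans fa)
        · exact (hye ⟨v, hv⟩).1.1 (huv.symm.trans fb)
      · rcases (not_and_or.mp hu).imp not_not.mp not_not.mp with rfl | rfl <;>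
          rcases (not_and_or.mp hv).imp not_not.mp not_not.mp with rfl | rfl
        · rfl
        · rw [fa, fb] at huv; exact absurd huv AB
        · rw [fa, fb] at huv; exact absurd huv.symm AB
        · rfl
  let σ : Perm (Fin n) := Equiv.ofBijective f (Finite.injective_iff_bijective.mp hinj)
  refine ⟨σ, ?_⟩
  set L : Subgroup (alternatingGroup (Fin n)) :=
    MonoidHom.eqLocus (MulAut.conjNormal σ).toMonoidHom θ.toMonoidHom with hL
  have hmem : ∀ {p q r : Fin n}, p ≠ q → p ≠ r → q ≠ r → tri p q r ∈ L.map (alternatingGroup (Fin n)).subtype := by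
    intro p q r pq pr qr
    refine tri_mem_of_base _ a b hab (fun k ka kb => ?_) pq pr qr
    refine ⟨t ⟨k, ka, kb⟩, ?_, rfl⟩
    refine Subtype.ext ?_
    show ((MulAut.conjNormal σ (t ⟨k, ka, kb⟩) : alternatingGroup (Fin n)) : Perm (Fin n)) = y ⟨k, ka, kb⟩
    rw [MulAut.conjNormal_apply, (hye ⟨k, ka, kb⟩).2, tri_conj]
    show tri (f a) (f b) (f k) = _
    rw [fa, fb, fk ⟨k, ka, kb⟩]
  have hle : alternatingGroup (Fin n) ≤ L.map (alternatingGroup (Fin n)).subtype := by
    refine Perm.closure_three_cycles_eq_alternating.symm.trans_le ((Subgroup.closure_le _).mpr ?_)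
    intro x hx
    obtain ⟨u, hu⟩ : ∃ u, x u ≠ u := by
      by_contra hno
      push Not at hno
      exact (hx : x.IsThreeCycle).ne_one (Equiv.ext hno)
    obtain ⟨⟨h1, h2⟩, -, h3⟩ := eq_tri hx hu
    rw [SetLike.mem_coe, h3]
    exact hmem (Ne.symm hu) h2.symm h1.symm
  refine MulEquiv.ext fun g => ?_
  obtain ⟨g', hg', hgg⟩ := hle g.2
  rw [Subtype.ext hgg] at hg'
  exact hg' 


/-- For `n ≠ 6` every automorphism preserves three-cycles. -/
theorem threeCycle_of_ne_six {n : ℕ} (h6 : n ≠ 6) (θ : MulAut (alternatingGroup (Fin n)))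
    (x : alternatingGroup (Fin n)) (hx : (x : Perm (Fin n)).IsThreeCycle) :
    ((θ x : alternatingGroup (Fin n)) : Perm (Fin n)).IsThreeCycle :=
  S2119.isThreeCycle_map h6 θ x hx

private theorem type_of_order_three {g : Perm (Fin 6)} (ho : orderOf g = 3) :
    g.cycleType = {3} ∨ g.cycleType = {3, 3} := by
  obtain ⟨k, hk⟩ := Perm.cycleType_prime_order (σ := g) (by rw [ho]; norm_num)
  rw [ho] at hk
  have h := Finset.card_le_univ g.support
  rw [← Perm.sum_cycleType, hk, Multiset.sum_replicate, smul_eq_mul, Fintype.card_fin] at h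
  rcases (by omega : k = 0 ∨ k = 1) with rfl | rfl
  · exact Or.inl hk
  · exact Or.inr hk

private theorem card_type (m : Multiset ℕ) (hm : m = {3} ∨ m = {3, 3}) :
    Nat.card {x : alternatingGroup (Fin 6) // (x : Perm (Fin 6)).cycleType = m} = 40 := by
  have he : {x : alternatingGroup (Fin 6) // (x : Perm (Fin 6)).cycleType = m} ≃
      {g : Perm (Fin 6) // g.cycleType = m} :=
    { toFun := fun x => ⟨x.1.1, x.2⟩
      invFun := fun g => ⟨⟨g.1, by
        rw [Perm.mem_alternatingGroup, Perm.sign_of_cycleType, g.2]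
        rcases hm with rfl | rfl <;> decide⟩, g.2⟩
      left_inv := fun x => rfl
      right_inv := fun g => rfl }
  rw [Nat.card_congr he, Nat.card_eq_fintype_card, Fintype.card_subtype, Perm.card_of_cycleType]
  rcases hm with rfl | rfl <;> decide

/-- An odd-order automorphism of `A_6` preserves three-cycles. -/
theorem isThreeCycle_six (θ : MulAut (alternatingGroup (Fin 6))) (hodd : Odd (orderOf θ))
    (x : alternatingGroup (Fin 6)) (hx : (x : Perm (Fin 6)).IsThreeCycle) :
    ((θ x : alternatingGroup (Fin 6)) : Perm (Fin 6)).IsThreeCycle := by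
  have hmap : ∀ (ψ : MulAut (alternatingGroup (Fin 6))) (y : alternatingGroup (Fin 6)),
      (y : Perm (Fin 6)).cycleType = {3} ∨ (y : Perm (Fin 6)).cycleType = {3, 3} →
      ((ψ y : alternatingGroup (Fin 6)) : Perm (Fin 6)).cycleType = {3} ∨
        ((ψ y : alternatingGroup (Fin 6)) : Perm (Fin 6)).cycleType = {3, 3} := by
    intro ψ y hy
    refine type_of_order_three ?_
    rw [Subgroup.orderOf_coe, MulEquiv.orderOf_eq, ← Subgroup.orderOf_coe, ← Perm.lcm_cycleType]
    rcases hy with h | h <;> rw [h] <;> decide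
  have hne : ({3} : Multiset ℕ) ≠ {3, 3} := by decide
  -- conjugate three-cycles have images of the same type
  have hsame : ∀ y : alternatingGroup (Fin 6), (y : Perm (Fin 6)).cycleType = {3} →
      ((θ y : alternatingGroup (Fin 6)) : Perm (Fin 6)).cycleType = ((θ x : alternatingGroup (Fin 6)) : Perm (Fin 6)).cycleType := by
    intro y hy
    obtain ⟨c, hc⟩ := isConj_iff.mp (alternatingGroup.isThreeCycle_isConj (by simp) hx (show (y : Perm (Fin 6)).IsThreeCycle from hy))
    rw [← hc, map_mul, map_mul, map_inv, Subgroup.coe_mul, Subgroup.coe_mul, Subgroup.coe_inv, Perm.cycleType_conj]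
  by_contra hθx
  have hx2 : ((θ x : alternatingGroup (Fin 6)) : Perm (Fin 6)).cycleType = {3, 3} :=
    (hmap θ x (Or.inl hx)).resolve_left hθx
  let S (m : Multiset ℕ) := {y : alternatingGroup (Fin 6) // (y : Perm (Fin 6)).cycleType = m}
  let F : S {3} → S {3, 3} := fun y => ⟨θ y.1, (hsame y.1 y.2).trans hx2⟩
  have hF : Function.Bijective F :=
    (Nat.bijective_iff_injective_and_card _).mpr ⟨fun a b h => Subtype.ext (θ.injective (congrArg Subtype.val h)),
      (card_type _ (Or.inl rfl)).trans (card_type _ (Or.inr rfl)).symm⟩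
  have hswap : ∀ y : alternatingGroup (Fin 6), (y : Perm (Fin 6)).cycleType = {3, 3} →
      ((θ y : alternatingGroup (Fin 6)) : Perm (Fin 6)).cycleType = {3} := by
    intro y hy
    refine (hmap θ y (Or.inr hy)).resolve_right fun h => ?_
    obtain ⟨s, hs⟩ := hF.2 ⟨θ y, h⟩
    exact hne (s.2.symm.trans (by rw [θ.injective (congrArg Subtype.val hs)]; exact hy))
  have hiter : ∀ k : ℕ, ((((θ ^ k) x : alternatingGroup (Fin 6))) : Perm (Fin 6)).cycleType =
      if Even k then {3} else {3, 3} := by
    intro k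
    induction k with
    | zero => simpa using hx.cycleType
    | succ k ih =>
      rw [pow_succ', MulAut.mul_apply]
      by_cases hk : Even k
      · rw [if_pos hk] at ih
        rw [if_neg (by simp [Nat.even_add_one, hk])]
        exact (hsame _ ih).trans hx2
      · rw [if_neg hk] at ih
        rw [if_pos (by simp [Nat.even_add_one, hk])]
        exact hswap _ ih
  have := hiter (orderOf θ)
  rw [pow_orderOf_eq_one, MulAut.one_apply, if_neg (Nat.not_even_iff_odd.mpr hodd)] at this
  exact hne (hx.cycleType.symm.trans this)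

/-- Every automorphism of odd order of `A_n`, `n ≥ 5`, is conjugation by a permutation. -/
theorem exists_conjNormal_of_odd {n : ℕ} (hn : 5 ≤ n) (θ : MulAut (alternatingGroup (Fin n)))
    (hodd : Odd (orderOf θ)) : ∃ σ : Perm (Fin n), MulAut.conjNormal σ = θ := by
  refine exists_conjNormal_of_threeCycle (by omega) θ ?_
  by_cases h6 : n = 6
  · subst h6
    exact isThreeCycle_six θ hodd
  · exact threeCycle_of_ne_six h6 θ

end Cfsg.Agent.AltAut
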